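import Cfsg.Agent.Lib.RootSub.Blocks.Main
import Cfsg.Agent.Lib.RootSub.Blocks.Components
import Cfsg.Prelude.Def_QuasithinSetup

/-!
# Root involutions with a disconnected commuting graph: the kernel on the components

The components are blocks.  In the quotient by the kernel of the action on them the blocks are faithful.
When some product of two commuting members is a member the kernel is the preimage of the centre of the
quotient by the largest normal two-subgroup.
-/

set_option autoImplicit false
set_option linter.style.haveILetI false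

namespace CfsgLib.RootInvol.Disconnected

open CfsgLib.RootInvol

variable {G : Type*} [Group G] {D : Set G} {R : G → G → Prop}

/-- The component relation. -/
def CompRel (D : Set G) (a b : G) : Prop := a ∈ D ∧ Relation.ReflTransGen (Cfsg.CommAdj D) a b

theorem commAdj_symm {a b : G} (h : Cfsg.CommAdj D a b) : Cfsg.CommAdj D b a :=
  ⟨h.2.1, h.1, h.2.2.1.symm, h.2.2.2.symm⟩

theorem mem_of_compRel {a b : G} (h : CompRel D a b) : b ∈ D := by
  obtain ⟨ha, h⟩ := h
  induction h with
  | refl => exact ha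
  | tail _ h _ => exact h.2.1

/-- The components of a disconnected commuting graph are blocks. -/
theorem compRel_isBlockRel (hD : Cfsg.IsRootInvolutionSet D)
    (hdis : ¬ Cfsg.IsConnectedSet (Cfsg.CommAdj D) D) : IsBlockRel D (CompRel D) where
  refl ha := ⟨ha, Relation.ReflTransGen.refl⟩
  symm h := by
    refine ⟨mem_of_compRel h, ?_⟩
    obtain ⟨-, h⟩ := h
    induction h with
    | refl => exact Relation.ReflTransGen.refl
    | tail _ h ih => exact (Relation.ReflTransGen.single (commAdj_symm h)).trans ih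
  trans h h' := ⟨h.1, h.2.trans h'.2⟩
  conj g {a b} h := by
    refine ⟨hD.conj_mem a h.1 g, ?_⟩
    obtain ⟨-, h⟩ := h
    induction h with
    | refl => exact Relation.ReflTransGen.refl
    | tail _ h ih =>
      exact ih.tail ⟨hD.conj_mem _ h.1 g, hD.conj_mem _ h.2.1 g,
        fun e => h.2.2.1 (mul_left_cancel (mul_right_cancel e)), (conj_comm_iff g).2 h.2.2.2⟩
  of_commute {a b} ha hb hc := by
    refine ⟨ha, ?_⟩
    by_cases h : a = b
    · subst h; exact Relation.ReflTransGen.refl
    · exact Relation.ReflTransGen.single ⟨ha, hb, h, hc⟩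
  ne_univ := by
    by_contra h
    push Not at h
    exact hdis fun a ha b hb => (h a ha b hb).2

/-- The elements fixing every block. -/
def blockKernel (hR : IsBlockRel D R) (hD : Cfsg.IsRootInvolutionSet D) : Subgroup G where
  carrier := {g | ∀ e ∈ D, R (g * e * g⁻¹) e}
  one_mem' e he := by simpa using hR.refl he
  mul_mem' {g h} hg hh e he := by
    have := hR.trans (hg _ (hD.conj_mem e he h)) (hh e he)
    simpa [mul_assoc] using this
  inv_mem' {g} hg e he := by
    have := hR.symm (hR.conj g⁻¹ (hg e he))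
    simpa [mul_assoc] using this

variable (hR : IsBlockRel D R) (hD : Cfsg.IsRootInvolutionSet D)

include hR hD

theorem mem_blockKernel {g : G} : g ∈ blockKernel hR hD ↔ ∀ e ∈ D, R (g * e * g⁻¹) e := Iff.rfl

theorem blockKernel_normal : (blockKernel hR hD).Normal :=
  ⟨fun n hn g e he => by
    have := hR.conj g (hn _ (hD.conj_mem e he g⁻¹))
    simpa [mul_assoc] using this⟩

theorem not_mem_blockKernel {d : G} (hd : d ∈ D) : d ∉ blockKernel hR hD := fun h => by
  obtain ⟨b, hb, hdb⟩ := hR.exists_not_rel hd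
  exact hdb (hR.rel_of_fix hD hd hb (h b hb))

theorem mk_eq_iff [(blockKernel hR hD).Normal] {a b : G} (ha : a ∈ D) :
    QuotientGroup.mk' (blockKernel hR hD) a = QuotientGroup.mk' (blockKernel hR hD) b ↔
      a * b ∈ blockKernel hR hD := by
  rw [QuotientGroup.mk'_apply, QuotientGroup.mk'_apply, QuotientGroup.eq, inv_eq hD ha]

theorem rel_of_mul_mem {a b : G} (ha : a ∈ D) (hb : b ∈ D) (h : a * b ∈ blockKernel hR hD) : R b a := by
  refine hR.rel_of_fix hD hb ha ?_
  have h1 : a * (a * b) ∈ hR.stab a ha :=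
    mul_mem (hR.mem_stab_of_rel ha (hR.refl ha)) (h a ha)
  rw [← mul_assoc, mul_self hD ha, one_mul] at h1
  exact h1

/-- The relation on the quotient. -/
def quotRel [(blockKernel hR hD).Normal] : G ⧸ blockKernel hR hD → G ⧸ blockKernel hR hD → Prop :=
  fun x y => ∃ a ∈ D, ∃ b ∈ D, QuotientGroup.mk' (blockKernel hR hD) a = x ∧
    QuotientGroup.mk' (blockKernel hR hD) b = y ∧ R a b

theorem orderOf_mk [(blockKernel hR hD).Normal] {a : G} (ha : a ∈ D) :
    orderOf (QuotientGroup.mk' (blockKernel hR hD) a) = 2 :=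
  orderOf_eq_prime (hp := ⟨Nat.prime_two⟩) (by rw [← map_pow, pow_two, mul_self hD ha, map_one])
    fun e => not_mem_blockKernel hR hD ha ((QuotientGroup.eq_one_iff a).1 e)

theorem quot_root [(blockKernel hR hD).Normal] :
    Cfsg.IsRootInvolutionSet (QuotientGroup.mk' (blockKernel hR hD) '' D) :=
  image_root hD _ fun _ ha => not_mem_blockKernel hR hD ha

theorem rel_of_mk_commute [(blockKernel hR hD).Normal] {a b : G} (ha : a ∈ D) (hb : b ∈ D)
    (h : Commute (QuotientGroup.mk' (blockKernel hR hD) a) (QuotientGroup.mk' (blockKernel hR hD) b)) :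
    R a b := by
  by_contra hab
  have hodd := (hR.cross_odd hD ha hb hab).2.2.2
  have hN : a * b ∈ blockKernel hR hD := by
    refine (QuotientGroup.eq_one_iff _).1 ?_
    have h1 := hodd.of_dvd_nat (orderOf_map_dvd (QuotientGroup.mk' (blockKernel hR hD)) (a * b))
    have h2 : QuotientGroup.mk' (blockKernel hR hD) (a * b) ^ 2 = 1 := by
      rw [map_mul, h.mul_pow, ← map_pow, ← map_pow, pow_two, pow_two, mul_self hD ha, mul_self hD hb, map_one,
        one_mul]
    rcases (Nat.dvd_prime Nat.prime_two).1 (orderOf_dvd_of_pow_eq_one h2) with e | e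
    · exact orderOf_eq_one_iff.1 e
    · rw [e] at h1; exact absurd h1 (by decide)
  exact hab (hR.symm (rel_of_mul_mem hR hD ha hb hN))

theorem quot_isBlockRel [(blockKernel hR hD).Normal] :
    IsBlockRel (QuotientGroup.mk' (blockKernel hR hD) '' D) (quotRel hR hD) where
  refl := by
    rintro _ ⟨a, ha, rfl⟩
    exact ⟨a, ha, a, ha, rfl, rfl, hR.refl ha⟩
  symm := fun ⟨a, ha, b, hb, e1, e2, h⟩ => ⟨b, hb, a, ha, e2, e1, hR.symm h⟩
  trans := fun ⟨a, ha, b, hb, e1, e2, h⟩ ⟨a', ha', b', hb', e1', e2', h'⟩ => by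
    refine ⟨a, ha, b', hb', e1, e2', hR.trans h (hR.trans ?_ h')⟩
    exact rel_of_mul_mem hR hD ha' hb ((mk_eq_iff hR hD ha').1 (e1'.trans e2.symm))
  conj := by
    rintro g _ _ ⟨a, ha, b, hb, rfl, rfl, h⟩
    obtain ⟨g, rfl⟩ := QuotientGroup.mk'_surjective _ g
    exact ⟨_, hD.conj_mem a ha g, _, hD.conj_mem b hb g, by simp, by simp, hR.conj g h⟩
  of_commute := by
    rintro _ _ ⟨a, ha, rfl⟩ ⟨b, hb, rfl⟩ h
    exact ⟨a, ha, b, hb, rfl, rfl, rel_of_mk_commute hR hD ha hb h⟩
  ne_univ := by
    obtain ⟨a, ha, b, hb, hab⟩ := hR.ne_univ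
    refine ⟨_, ⟨a, ha, rfl⟩, _, ⟨b, hb, rfl⟩, fun ⟨a', ha', b', hb', e1, e2, h⟩ => hab ?_⟩
    exact hR.trans (rel_of_mul_mem hR hD ha' ha ((mk_eq_iff hR hD ha').1 e1))
      (hR.trans h (hR.symm (rel_of_mul_mem hR hD hb' hb ((mk_eq_iff hR hD hb').1 e2))))

theorem quot_faithful [(blockKernel hR hD).Normal] :
    IsFaithfulBlocks (QuotientGroup.mk' (blockKernel hR hD) '' D) (quotRel hR hD) := by
  intro g hg
  obtain ⟨g, rfl⟩ := QuotientGroup.mk'_surjective _ g
  refine (QuotientGroup.eq_one_iff g).2 fun e he => ?_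
  obtain ⟨a, ha, b, hb, e1, e2, h⟩ := hg _ ⟨e, he, rfl⟩
  have hge := hD.conj_mem e he g
  rw [← map_inv, ← map_mul, ← map_mul] at e1
  exact hR.trans (rel_of_mul_mem hR hD ha hge ((mk_eq_iff hR hD ha).1 e1))
    (hR.trans h (hR.symm (rel_of_mul_mem hR hD hb he ((mk_eq_iff hR hD hb).1 e2))))

/-- A product of two members in the kernel is not of order four. -/
theorem commute_or_odd_of_mul_mem {a b : G} (ha : a ∈ D) (hb : b ∈ D) (h : a * b ∈ blockKernel hR hD) :
    a * b = b * a ∨ Odd (orderOf (a * b)) := by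
  rcases hD.pair a ha b hb with h1 | h1 | ⟨-, h1⟩
  · exact Or.inl h1
  · exact Or.inr h1
  · exact absurd (pow_mem h 2) (not_mem_blockKernel hR hD h1)

/-- With a partner, two members with product in the kernel commute. -/
theorem commute_of_mul_mem {a a' b : G} (ha : a ∈ D) (ha' : a' ∈ D) (hb : b ∈ D) (hab : a * b = b * a)
    (habD : a * b ∈ D) (h : a' * a ∈ blockKernel hR hD) : a' * a = a * a' := by
  haveI := blockKernel_normal hR hD
  rcases eq_or_ne a a' with rfl | hne'
  · rfl
  rcases commute_or_odd_of_mul_mem hR hD ha' ha h with hc | hodd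
  · exact hc
  · exfalso
    set π := QuotientGroup.mk' (blockKernel hR hD) with hπ
    have hmk : π a' = π a := (mk_eq_iff hR hD ha').2 h
    have hne : π b ≠ π a := fun e => not_mem_blockKernel hR hD habD
      ((mk_eq_iff hR hD ha).1 e.symm)
    have hba : π (b * a') = π (a * b) := by rw [map_mul, hmk, ← map_mul, hab]
    have ho : orderOf (π (b * a')) = 2 := by rw [hba]; exact orderOf_mk hR hD habD
    have hcomm : b * a' = a' * b := by
      rcases hD.pair b hb a' ha' with h1 | h1 | ⟨-, h1⟩
      · exact h1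
      · exfalso
        have h2 := h1.of_dvd_nat (orderOf_map_dvd π (b * a'))
        rw [ho] at h2
        exact absurd h2 (by decide)
      · exfalso
        refine not_mem_blockKernel hR hD h1 ((QuotientGroup.eq_one_iff _).1 ?_)
        rw [← hπ] at *
        show π ((b * a') ^ 2) = 1
        rw [map_pow, ← ho, pow_orderOf_eq_one]
    exact forbidden hD hb (show b * a ∈ D from hab ▸ habD) hab.symm hcomm
      ⟨ha, ha', hne', by rwa [← orderOf_inv, mul_inv_rev, inv_eq hD ha, inv_eq hD ha'] ⟩

end CfsgLib.RootInvol.Disconnected
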