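import Cfsg.Agent.Lib.RootSub.Disconnected.TwoZ
import Cfsg.Agent.Lib.Bender.Suzuki.Consumers
import Cfsg.Agent.Lib.Invol.SECriterion.Count

/-!
# Root involutions with a disconnected commuting graph

Modulo the kernel on the components a member is two-central and the stabiliser of its component satisfies
the criterion; so that quotient is one of the three families, given the criterion and the classification
of the rank one setting.
-/

set_option autoImplicit false
set_option linter.style.haveILetI false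

namespace CfsgLib.RootInvol.Disconnected

open CfsgLib.RootInvol CfsgLib.Invol MulAction

universe u

section Faithful

variable {G : Type u} [Group G] [Finite G] {D : Set G} {R : G → G → Prop} (hB : IsBlockSystem D R)
  (hf : IsFaithfulBlocks D R)

include hB

/-- The number of members is odd. -/
theorem odd_card_members {d : G} (hd : d ∈ D) : Odd (Nat.card D) := by
  classical
  have hD := hB.root
  haveI : Fact (Nat.Prime 2) := ⟨Nat.prime_two⟩
  -- the block of `d` with one
  let E : Subgroup G :=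
    { carrier := {x | x = 1 ∨ x ∈ D ∧ R d x}
      one_mem' := Or.inl rfl
      mul_mem' := by
        rintro x y (rfl | ⟨hx, hdx⟩) hy
        · simpa using hy
        rcases hy with rfl | ⟨hy, hdy⟩
        · exact Or.inr ⟨by simpa using hx, by simpa using hdx⟩
        by_cases hxy : x = y
        · subst hxy; exact Or.inl (mul_self hD hx)
        have hc := hB.commute_of_rel hx hy (hB.rel.trans (hB.rel.symm hdx) hdy)
        have hm := hB.prod hx hy hxy hc
        exact Or.inr ⟨hm, hB.rel.trans hdx (hB.rel.of_commute hx hm (by rw [mul_assoc, ← hc]))⟩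
      inv_mem' := by
        rintro x (rfl | ⟨hx, hdx⟩)
        · exact Or.inl inv_one
        · exact Or.inr ⟨(inv_eq hD hx).symm ▸ hx, (inv_eq hD hx).symm ▸ hdx⟩ }
  have hE2 : IsPGroup 2 E := fun x => ⟨1, by
    obtain ⟨x, hx⟩ := x
    apply Subtype.ext
    show x ^ 2 ^ 1 = 1
    rw [pow_one, pow_two]
    rcases hx with rfl | ⟨hx, -⟩
    · exact one_mul 1
    · exact mul_self hD hx⟩
  have hblock : Odd (Nat.card {x : D // R d x}) := by
    have e : Nat.card E = Nat.card {x : D // R d x} + 1 := by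
      have h1 : ((E : Set G) \ {1}) = Subtype.val '' {x : D | R d x} := by
        ext x
        constructor
        · rintro ⟨rfl | ⟨hx, hdx⟩, hne⟩
          · exact absurd rfl hne
          · exact ⟨⟨x, hx⟩, hdx, rfl⟩
        · rintro ⟨⟨x, hx⟩, hdx, rfl⟩
          exact ⟨Or.inr ⟨hx, hdx⟩, fun e0 : x = 1 => invol_ne_one (hD.orderOf_eq x hx) e0⟩
      have h2 := Set.ncard_diff_singleton_add_one (E.one_mem : (1 : G) ∈ (E : Set G))
      rw [h1, Set.ncard_image_of_injective _ Subtype.val_injective] at h2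
      exact h2.symm
    obtain ⟨k, hk⟩ := hE2.exists_card_eq
    rw [hk] at e
    rcases Nat.eq_zero_or_pos k with h0 | h0
    · subst h0
      have : 0 < Nat.card {x : D // R d x} := by
        haveI : Nonempty {x : D // R d x} := ⟨⟨⟨d, hd⟩, hB.rel.refl hd⟩⟩
        exact Nat.card_pos
      omega
    · have h2 : Even (2 ^ k) := Nat.even_pow.2 ⟨even_two, by omega⟩
      rw [e, Nat.even_add_one, Nat.not_even_iff_odd] at h2
      exact h2
  have hrest : Even (Nat.card {x : D // ¬ R d x}) := by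
    let σ : Equiv.Perm {x : D // ¬ R d x} := Function.Involutive.toPerm
      (fun x => ⟨⟨d * x.1.1 * d⁻¹, hD.conj_mem _ x.1.2 d⟩, fun h => x.2 (by
        have h1 := hB.rel.conj d⁻¹ h
        have h2 := hB.rel.mem_stab_of_rel hd (hB.rel.refl hd)
        rw [hB.rel.mem_stab hd] at h2
        simpa [mul_assoc] using h1)⟩)
      (fun x => Subtype.ext (Subtype.ext (by
        show d * (d * x.1.1 * d⁻¹) * d⁻¹ = x.1.1
        rw [inv_eq hD hd, show d * (d * x.1.1 * d) * d = d * d * x.1.1 * (d * d) by simp only [mul_assoc],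
          mul_self hD hd, one_mul, mul_one])))
    have hσ2 : σ * σ = 1 := Equiv.ext fun x => σ.left_inv x
    haveI := Fintype.ofFinite {x : D // ¬ R d x}
    rw [Nat.card_eq_fintype_card]
    by_contra hodd
    obtain ⟨x, hx⟩ := Equiv.Perm.exists_fixed_point_of_prime (p := 2) (n := 1) (σ := σ)
      (fun h => hodd (even_iff_two_dvd.2 h)) (by rw [pow_one, pow_two, hσ2])
    refine x.2 (hB.rel.of_commute hd x.1.2 ?_)
    have h1 : d * x.1.1 * d⁻¹ = x.1.1 := congrArg (fun z => ((z.1 : D) : G)) hx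
    exact mul_inv_eq_iff_eq_mul.1 h1
  rw [← Nat.card_congr (Equiv.sumCompl fun x : D => R d x), Nat.card_sum]
  exact hblock.add_even hrest

/-- The stabiliser of a component satisfies the criterion. -/
theorem crit {d : G} (hd : d ∈ D) : CfsgLib.SECrit.Crit (hB.rel.stab d hd) d where
  invol := hB.root.orderOf_eq d hd
  mem := hB.rel.mem_stab_of_rel hd (hB.rel.refl hd)
  sylow := by
    rw [← CfsgLib.SECrit.card_isConj_eq_index]
    have e : Nat.card D = Nat.card {y : G // IsConj d y} := by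
      refine Nat.card_congr (Equiv.subtypeEquivRight fun y => ⟨fun hy => ?_, fun hy => ?_⟩)
      · obtain ⟨g, rfl⟩ := (hB.rel.isRootInvolutionClass hB.root).2.2 d hd y hy
        exact isConj_iff.2 ⟨g, rfl⟩
      · obtain ⟨g, rfl⟩ := isConj_iff.1 hy
        exact hB.root.conj_mem d hd g
    rw [← e]
    exact odd_card_members hB hd
  fuse := fun g hg => (hB.rel.mem_stab hd).2 (hB.rel.rel_of_fix hB.root (hB.root.conj_mem d hd g) hd hg)
  prod := fun g hc hne c hcu => by
    have he := hB.root.conj_mem d hd g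
    have hu := hB.prod hd he hne.symm hc.eq
    have hdu : R d (d * (g * d * g⁻¹)) :=
      hB.rel.of_commute hd hu ((Commute.refl d).mul_right hc).eq
    have h1 := hB.rel.conj c hdu
    rw [mul_inv_eq_iff_eq_mul.2 (Subgroup.mem_centralizer_singleton_iff.1 hcu)] at h1
    exact (hB.rel.mem_stab hd).2 (hB.rel.trans h1 (hB.rel.symm hdu))

include hf

/-- **The faithful case.** -/
theorem families_of_faithful (hCT : CfsgLib.SECrit.CritThm.{u}) (hC : CfsgLib.Bender.Suzuki.Classified.{u}) :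
    (∃ (F : Type) (_ : Field F) (_ : Fintype F), (∃ n : ℕ, 2 ≤ n ∧ Fintype.card F = 2 ^ n) ∧
        Nonempty (G ≃* Matrix.ProjectiveSpecialLinearGroup (Fin 2) F)) ∨
      Cfsg.Lie.IsoSuzuki G ∨
      (∃ (F : Type) (_ : Field F) (_ : Fintype F) (n : ℕ), 2 ≤ n ∧ Fintype.card F = (2 ^ n) ^ 2 ∧
        Nonempty (G ≃* Cfsg.PSU 3 F (2 ^ n))) := by
  classical
  have hD := hB.root
  obtain ⟨d, hd, -⟩ := hB.rel.ne_univ
  have hc := crit hB hd
  set M := hB.rel.stab d hd with hM
  have hMtop : M ≠ ⊤ := fun e => by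
    obtain ⟨x, hx, hdx⟩ := hB.rel.exists_not_rel hd
    obtain ⟨g, rfl⟩ := (hB.rel.isRootInvolutionClass hD).2.2 d hd x hx
    exact hdx (hB.rel.symm ((hB.rel.mem_stab hd).1 (show g ∈ M from e ▸ Subgroup.mem_top g)))
  have hcore : M.normalCore = ⊥ := by
    refine (Subgroup.eq_bot_iff_forall _).2 fun v hv => hf v fun e he => ?_
    obtain ⟨g, rfl⟩ := (hB.rel.isRootInvolutionClass hD).2.2 d hd e he
    have h1 := hB.rel.conj g ((hB.rel.mem_stab hd).1 (hv g⁻¹))
    simpa [mul_assoc] using h1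
  have hgen : Subgroup.normalClosure ({d} : Set G) = ⊤ := by
    rw [eq_top_iff, ← hD.generates, Subgroup.closure_le]
    intro x hx
    obtain ⟨g, rfl⟩ := (hB.rel.isRootInvolutionClass hD).2.2 d hd x hx
    exact Subgroup.normalClosure_normal.conj_mem d (Subgroup.subset_normalClosure (Set.mem_singleton d)) g
  have hse := hCT G M d hc hMtop hcore
  have heven : Even (Nat.card M) := by
    have h := orderOf_dvd_natCard (⟨d, hc.mem⟩ : M)
    rw [Subgroup.orderOf_mk, hc.invol] at h
    exact even_iff_two_dvd.2 h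
  have hSE : Cfsg.IsStronglyEmbedded M := (stronglyEmbedded_iff hMtop heven).2 fun t ht hto g hg =>
    CfsgLib.SECrit.mem_of_subgroupOf hse (hgen ▸ Subgroup.mem_top t) ht hto (hgen ▸ Subgroup.mem_top g) hg
  have hpair : CfsgLib.Bender.HasPair G := by
    obtain ⟨b, hb, hne, hdb⟩ := hB.partner hd
    exact ⟨d, b, hD.orderOf_eq d hd, hD.orderOf_eq b hb, hne.symm, hdb⟩
  obtain ⟨Q, hle, hn, htwo, hreg⟩ := CfsgLib.Bender.Full.fullStatement G M hSE hcore hpair
  have hdata : CfsgLib.SECrit.Shape.Data M Q := ⟨hSE, hcore, hpair, hle, hn, htwo, hreg⟩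
  obtain ⟨t, hS⟩ := hdata.exists_setup
  haveI : FaithfulSMul G (G ⧸ M) := ⟨fun {g g'} h => by
    have h1 : g⁻¹ * g' ∈ M.normalCore := CfsgLib.SECrit.mem_core_of_forall_smul fun x => by
      rw [mul_smul, ← h x, inv_smul_smul]
    rwa [hcore, Subgroup.mem_bot, inv_mul_eq_one] at h1⟩
  obtain ⟨L, hL, hodd, hcases⟩ := hC G (G ⧸ M) _ t Q hS hdata.pair_mul
  have hLtop : L = ⊤ := by
    haveI := hL
    refine eq_top_iff.2 (hgen ▸ Subgroup.normalClosure_le_normal (Set.singleton_subset_iff.2 ?_))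
    refine (QuotientGroup.eq_one_iff d).1 (orderOf_eq_one_iff.1 ?_)
    have h2 : orderOf (QuotientGroup.mk' L d) ∣ 2 := hD.orderOf_eq d hd ▸ orderOf_map_dvd _ d
    rcases (Nat.dvd_prime Nat.prime_two).1 h2 with e | e
    · exact e
    · exfalso
      rw [Subgroup.index_eq_card] at hodd
      exact Nat.not_even_iff_odd.2 hodd (even_iff_two_dvd.2 (e ▸ orderOf_dvd_natCard _))
  let e : G ≃* L := Subgroup.topEquiv.symm.trans (MulEquiv.subgroupCongr hLtop.symm)
  rcases hcases with ⟨F, i1, i2, hn', ⟨g⟩⟩ | hsz | ⟨F, i1, i2, n, hn', hF, ⟨g⟩⟩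
  · exact Or.inl ⟨F, i1, i2, hn', ⟨e.trans g⟩⟩
  · obtain ⟨F, i1, i2, m, hm, hF, ⟨g⟩⟩ := hsz
    exact Or.inr (Or.inl ⟨F, i1, i2, m, hm, hF, ⟨e.trans g⟩⟩)
  · exact Or.inr (Or.inr ⟨F, i1, i2, n, hn', hF, ⟨e.trans g⟩⟩)

end Faithful

section Statement

variable {G : Type u} [Group G] [Finite G] {D : Set G}

/-- **Root involutions with a disconnected commuting graph.** -/
theorem connected_or_families (hCT : CfsgLib.SECrit.CritThm.{u}) (hC : CfsgLib.Bender.Suzuki.Classified.{u})
    (hD : Cfsg.IsRootInvolutionSet D) (hDD : (D ∩ Cfsg.commutingProducts D).Nonempty) :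
    Cfsg.IsConnectedSet (Cfsg.CommAdj D) D ∨
    (∃ (F : Type) (_ : Field F) (_ : Fintype F), CharP F 2 ∧ 4 ≤ Fintype.card F ∧
      Nonempty (G ⧸ Cfsg.twoZCore G ≃* Matrix.ProjectiveSpecialLinearGroup (Fin 2) F)) ∨
    Cfsg.Lie.IsoSuzuki (G ⧸ Cfsg.twoZCore G) ∨
    (∃ (F : Type) (_ : Field F) (_ : Fintype F) (q : ℕ), CharP F 2 ∧ Fintype.card F = q ^ 2 ∧ 4 ≤ q ∧
      Nonempty (G ⧸ Cfsg.twoZCore G ≃* Cfsg.PSU 3 F q)) := by
  classical
  by_cases hcon : Cfsg.IsConnectedSet (Cfsg.CommAdj D) D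
  · exact Or.inl hcon
  refine Or.inr ?_
  have hR := compRel_isBlockRel hD hcon
  haveI := blockKernel_normal hR hD
  have hker := blockKernel_eq hR hD hDD
  set N := blockKernel hR hD with hN
  have hq := quot_isBlockRel hR hD
  have hqr := quot_root hR hD
  have hqf := quot_faithful hR hD
  have hB : IsBlockSystem (QuotientGroup.mk' N '' D) (quotRel hR hD) := by
    refine ⟨hqr, hq, hq.prod_mem hqf hqr, ?_⟩
    rintro _ ⟨a, ha, rfl⟩
    obtain ⟨b, hb, hab, habD⟩ := exists_partner hR hD hDD ha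
    exact ⟨_, ⟨b, hb, rfl⟩, fun e => not_mem_blockKernel hR hD habD ((mk_eq_iff hR hD ha).1 e.symm),
      by rw [← map_mul, hab, map_mul]⟩
  let e : G ⧸ Cfsg.twoZCore G ≃* G ⧸ N := QuotientGroup.quotientMulEquivOfEq hker.symm
  rcases families_of_faithful hB hqf hCT hC with ⟨F, i1, i2, ⟨n, hn, hF⟩, ⟨g⟩⟩ | hsz | ⟨F, i1, i2, n, hn, hF, ⟨g⟩⟩
  · refine Or.inl ⟨F, i1, i2, CfsgLib.Bender.Suzuki.charTwo_of_card hF, ?_, ⟨e.trans g⟩⟩
    rw [hF]
    exact Nat.pow_le_pow_right two_pos hn
  · obtain ⟨F, i1, i2, m, hm, hF, ⟨g⟩⟩ := hsz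
    exact Or.inr (Or.inl ⟨F, i1, i2, m, hm, hF, ⟨e.trans g⟩⟩)
  · refine Or.inr (Or.inr ⟨F, i1, i2, 2 ^ n, ?_, hF, Nat.pow_le_pow_right two_pos hn, ⟨e.trans g⟩⟩)
    exact CfsgLib.Bender.Suzuki.charTwo_of_card (n := n * 2) (by rw [hF, pow_mul])

end Statement

end CfsgLib.RootInvol.Disconnected
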