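import Cfsg.Agent.Lib.RootSub.Disconnected.Kernel
import Cfsg.Agent.Lib.Coprime.Core
import Mathlib.GroupTheory.PGroup

/-!
# The kernel on the components is the preimage of the centre modulo the largest normal two-subgroup
-/

set_option autoImplicit false
set_option linter.style.haveILetI false

namespace CfsgLib.RootInvol.Disconnected

open CfsgLib.RootInvol

universe u

variable {G : Type u} [Group G] [Finite G] {D : Set G} {R : G → G → Prop} (hR : IsBlockRel D R)
  (hD : Cfsg.IsRootInvolutionSet D)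

include hR hD

omit [Finite G] in
/-- Every member has a partner, once one does. -/
theorem exists_partner (hDD : (D ∩ Cfsg.commutingProducts D).Nonempty) {a : G} (ha : a ∈ D) :
    ∃ b ∈ D, a * b = b * a ∧ a * b ∈ D := by
  obtain ⟨_, hc, p, hp, q, hq, hpq, -, rfl⟩ := hDD
  obtain ⟨g, rfl⟩ := (hR.isRootInvolutionClass hD).2.2 p hp a ha
  refine ⟨g * q * g⁻¹, hD.conj_mem q hq g, (conj_comm_iff g).2 hpq, ?_⟩
  rw [show g * p * g⁻¹ * (g * q * g⁻¹) = g * (p * q) * g⁻¹ by group]
  exact hD.conj_mem _ hc g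

/-- Members with equal images generate a subgroup meeting the kernel in a normal two-subgroup. -/
theorem mul_mem_pCore (hDD : (D ∩ Cfsg.commutingProducts D).Nonempty) {a a' : G} (ha : a ∈ D) (ha' : a' ∈ D)
    (h : a' * a ∈ blockKernel hR hD) : a' * a ∈ Cfsg.pCore 2 G := by
  classical
  haveI : Fact (Nat.Prime 2) := ⟨Nat.prime_two⟩
  haveI := blockKernel_normal hR hD
  set N := blockKernel hR hD with hN
  set π := QuotientGroup.mk' N
  set S : Set G := {x | x ∈ D ∧ π x = π a} with hS
  have hcomm : ∀ x ∈ S, ∀ y ∈ S, x * y = y * x := by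
    rintro x ⟨hx, ex⟩ y ⟨hy, ey⟩
    obtain ⟨b, hb, hyb, hybD⟩ := exists_partner hR hD hDD hy
    exact commute_of_mul_mem hR hD hy hx hb hyb hybD ((mk_eq_iff hR hD hx).1 (ex.trans ey.symm))
  haveI : IsMulCommutative ↥(Subgroup.closure S) := Subgroup.isMulCommutative_closure hcomm
  have htwo : IsPGroup 2 ↥(Subgroup.closure S) := by
    intro x
    refine ⟨1, ?_⟩
    rw [pow_one, pow_two]
    apply Subtype.ext
    show (x : G) * x = 1
    obtain ⟨x, hx⟩ := x
    show x * x = 1
    induction hx using Subgroup.closure_induction with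
    | mem y hy => exact mul_self hD hy.1
    | one => exact one_mul 1
    | mul y z hy hz ihy ihz =>
      have hc : Commute y z := congrArg Subtype.val
        (mul_comm' (⟨y, hy⟩ : Subgroup.closure S) ⟨z, hz⟩)
      rw [show y * z * (y * z) = y * (z * y) * z by group, ← hc.eq, ← mul_assoc, ihy, one_mul, ihz]
    | inv y _ ihy => rw [← mul_inv_rev, ihy, inv_one]
  set W := Subgroup.closure S ⊓ N with hW
  -- `W` is normal in the kernel
  have hWn : (W.subgroupOf N).Normal := by
    refine ⟨fun w hw n => ?_⟩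
    rw [Subgroup.mem_subgroupOf] at hw ⊢
    refine ⟨?_, (blockKernel_normal hR hD).conj_mem _ hw.2 _⟩
    have hmap : Subgroup.closure S ≤ (Subgroup.closure S).comap (MulAut.conj (n : G)).toMonoidHom := by
      rw [Subgroup.closure_le]
      rintro x ⟨hx, ex⟩
      refine Subgroup.subset_closure ⟨hD.conj_mem x hx _, ?_⟩
      show π ((n : G) * x * (n : G)⁻¹) = π a
      rw [map_mul, map_mul, map_inv, show π (n : G) = 1 from (QuotientGroup.eq_one_iff _).2 n.2, one_mul, inv_one,
        mul_one, ex]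
    exact hmap hw.1
  -- the largest normal two-subgroup of the kernel is normal in the group
  have hWW : W.subgroupOf N ≤ Cfsg.pCore 2 N :=
    le_sSup ⟨hWn, (htwo.to_le inf_le_left).comap_subtype⟩
  have hle : (Cfsg.pCore 2 N).map N.subtype ≤ Cfsg.pCore 2 G := by
    refine le_sSup ⟨?_, (CfsgLib.Coprime.pCore_isPGroup 2).map _⟩
    haveI := CfsgLib.Coprime.pCore_characteristic (G := N) 2
    exact inferInstance
  refine hle ⟨⟨a' * a, h⟩, hWW ?_, rfl⟩
  rw [Subgroup.mem_subgroupOf]
  exact ⟨mul_mem (Subgroup.subset_closure ⟨ha', (mk_eq_iff hR hD ha').2 h⟩)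
    (Subgroup.subset_closure ⟨ha, rfl⟩), h⟩

/-- **The kernel on the blocks.** -/
theorem blockKernel_eq (hDD : (D ∩ Cfsg.commutingProducts D).Nonempty) :
    blockKernel hR hD = Cfsg.twoZCore G := by
  classical
  haveI := blockKernel_normal hR hD
  haveI := CfsgLib.Coprime.pCore_characteristic (G := G) 2
  haveI hn : (Cfsg.pCore 2 G).Normal := inferInstance
  set π := QuotientGroup.mk' (Cfsg.pCore 2 G)
  have hmem : ∀ g : G, g ∈ Cfsg.twoZCore G ↔ ∀ a ∈ D, g * a * g⁻¹ * a ∈ Cfsg.pCore 2 G := by
    intro g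
    show π g ∈ Subgroup.center _ ↔ _
    constructor
    · intro h a ha
      refine (QuotientGroup.eq_one_iff _).1 ?_
      show π (g * a * g⁻¹ * a) = 1
      rw [map_mul, map_mul, map_mul, map_inv, ← Subgroup.mem_center_iff.1 h (π a), mul_inv_cancel_right, ← map_mul,
        mul_self hD ha, map_one]
    · intro h
      rw [Subgroup.mem_center_iff]
      intro y
      obtain ⟨y, rfl⟩ := QuotientGroup.mk'_surjective _ y
      have hy : y ∈ Subgroup.closure D := hD.generates ▸ Subgroup.mem_top y
      induction hy using Subgroup.closure_induction with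
      | mem a ha =>
        have h1 : π (g * a * g⁻¹ * a) = 1 := (QuotientGroup.eq_one_iff _).2 (h a ha)
        rw [map_mul, map_mul, map_mul, map_inv, ← eq_inv_iff_mul_eq_one, ← map_inv π a, inv_eq hD ha,
          mul_inv_eq_iff_eq_mul] at h1
        exact h1.symm
      | one => rw [map_one, one_mul, mul_one]
      | mul x z _ _ hx hz => rw [map_mul, mul_assoc, hz, ← mul_assoc, hx, mul_assoc]
      | inv x _ hx =>
        rw [map_inv]
        exact ((show Commute (π g) (π x) from hx.symm).inv_right).eq.symm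
  refine le_antisymm (fun g hg => (hmem g).2 fun a ha => ?_) fun g hg e he => ?_
  · refine mul_mem_pCore hR hD hDD ha (hD.conj_mem a ha g) ?_
    have h1 : g * (a * g⁻¹ * a⁻¹) ∈ blockKernel hR hD :=
      mul_mem hg ((blockKernel_normal hR hD).conj_mem _ (inv_mem hg) a)
    rwa [inv_eq hD ha, ← mul_assoc, ← mul_assoc] at h1
  · have h1 := (hmem g).1 hg e he
    by_contra hne
    have hodd := (hR.cross_odd hD (hD.conj_mem e he g) he hne).2.2.2
    obtain ⟨k, hk⟩ := CfsgLib.Coprime.pCore_isPGroup (G := G) 2 ⟨_, h1⟩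
    have hdvd : orderOf (g * e * g⁻¹ * e) ∣ 2 ^ k :=
      orderOf_dvd_of_pow_eq_one (congrArg Subtype.val hk)
    obtain ⟨j, -, hj⟩ := (Nat.dvd_prime_pow Nat.prime_two).1 hdvd
    rcases Nat.eq_zero_or_pos j with h0 | h0
    · rw [h0, pow_zero, orderOf_eq_one_iff] at hj
      refine hne ?_
      rw [mul_eq_one_iff_eq_inv.1 hj, inv_eq hD he]
      exact hR.refl he
    · rw [hj] at hodd
      exact Nat.not_even_iff_odd.2 hodd (Nat.even_pow.2 ⟨even_two, by omega⟩)

end CfsgLib.RootInvol.Disconnected
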